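import Mathlib
import Groth.Agent.FlattenIdealLib.Artinian
import Groth.Agent.LocFlat.Fibre
import Groth.Agent.CAlgBasics.FlatMod
import Groth.Agent.FlatDescInjLib.Basic
import Groth.Agent.FiniteCompleteLib.Basic
import Groth.Agent.ChevLemLib.Basic

set_option autoImplicit false
set_option linter.style.haveILetI false
set_option maxHeartbeats 1000000

/-!
# Flattening ideals over complete local rings
-/

universe u

open TensorProduct IsLocalRing

namespace Groth.Agent.FlattenIdealLib

/-- Flatness of a finite module from its reductions modulo the powers of an ideal. -/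
theorem flat_of_adic_module {R S Y : Type u} [CommRing R] [CommRing S] [IsNoetherianRing R]
    [IsNoetherianRing S] [Algebra R S] [AddCommGroup Y] [Module R Y] [Module S Y] [IsScalarTower R S Y]
    [Module.Finite S Y] (I : Ideal R) (hI : I.map (algebraMap R S) ≤ Ideal.jacobson ⊥)
    (h : ∀ n : ℕ, Module.Flat (R ⧸ I ^ n) ((R ⧸ I ^ n) ⊗[R] Y)) : Module.Flat R Y := by
  refine LocFlat.flat_of_forall_mem_range (S := S) I hI fun J z hz n => ?_
  let Jb : Submodule (R ⧸ I ^ n) (R ⧸ I ^ n) := J.map (Ideal.Quotient.mk (I ^ n))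
  haveI := h n
  let π : J →ₗ[R] Jb :=
    LinearMap.codRestrict (Jb.restrictScalars R) ((Ideal.Quotient.mkₐ R (I ^ n)).toLinearMap ∘ₗ J.subtype)
      fun a => Ideal.mem_map_of_mem _ a.2
  have hπ : Function.Surjective π := by
    rintro ⟨y, hy⟩
    obtain ⟨a, ha, rfl⟩ := (Ideal.mem_map_iff_of_surjective _ Ideal.Quotient.mk_surjective).mp hy
    exact ⟨⟨a, ha⟩, rfl⟩
  have hex : Function.Exact (Submodule.inclusion (inf_le_left : J ⊓ I ^ n ≤ J)) π := by
    intro a
    constructor
    · intro h0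
      exact ⟨⟨a.1, a.2, Ideal.Quotient.eq_zero_iff_mem.mp (congrArg Subtype.val h0)⟩, rfl⟩
    · rintro ⟨b, rfl⟩
      exact Subtype.ext (Ideal.Quotient.eq_zero_iff_mem.mpr b.2.2)
  refine (lTensor_exact Y hex hπ z).mp ?_
  have hinj : Function.Injective ((Jb.subtype.restrictScalars R).lTensor Y) :=
    (LinearMap.lTensor_inj_iff_rTensor_inj _ _).mpr
      (CAlgBasics.rTensor_injective_of_flat_baseChange (R ⧸ I ^ n) Y Jb.subtype Jb.subtype_injective)
  apply hinj
  rw [map_zero, ← LinearMap.lTensor_comp_apply,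
    show Jb.subtype.restrictScalars R ∘ₗ π = (Ideal.Quotient.mkₐ R (I ^ n)).toLinearMap ∘ₗ J.subtype from rfl,
    LinearMap.lTensor_comp_apply, hz, map_zero]

/-- Base change along a map of algebras keeps flatness. -/
theorem flat_map {R P Q X : Type u} [CommRing R] [CommRing P] [CommRing Q] [Algebra R P] [Algebra R Q]
    [AddCommGroup X] [Module R X] (f : P →ₐ[R] Q) [Module.Flat P (P ⊗[R] X)] :
    Module.Flat Q (Q ⊗[R] X) := by
  letI := f.toRingHom.toAlgebra
  haveI : IsScalarTower R P Q := IsScalarTower.of_algebraMap_eq fun r => (f.commutes r).symm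
  exact Module.Flat.of_linearEquiv (AlgebraTensorModule.cancelBaseChange R P Q Q X).symm

theorem flat_prod' {R N P : Type u} [CommRing R] [AddCommGroup N] [Module R N] [AddCommGroup P] [Module R P]
    [Module.Flat R N] [Module.Flat R P] : Module.Flat R (N × P) := by
  refine (Module.Flat.iff_lTensor_injective' (M := N × P)).mpr fun I => ?_
  have key : ∀ x, TensorProduct.prodLeft R R N P R (I.subtype.lTensor (N × P) x) =
      Prod.map (I.subtype.lTensor N) (I.subtype.lTensor P) (TensorProduct.prodLeft R R N P I x) := fun x => by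
    induction x using TensorProduct.induction_on with
    | zero => simp only [map_zero]; exact Prod.ext (by simp) (by simp)
    | tmul z r => obtain ⟨a, b⟩ := z; simp [Prod.map]
    | add x y hx hy => simp only [map_add, hx, hy]; exact Prod.ext (by simp) (by simp)
  intro x y hxy
  apply (TensorProduct.prodLeft R R N P I).injective
  have h := congrArg (TensorProduct.prodLeft R R N P R) hxy
  rw [key, key] at h
  exact (Module.Flat.lTensor_preserves_injective_linearMap I.subtype I.injective_subtype).prodMap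
    (Module.Flat.lTensor_preserves_injective_linearMap I.subtype I.injective_subtype) h

theorem flat_prod {R P₁ P₂ X : Type u} [CommRing R] [CommRing P₁] [CommRing P₂] [Algebra R P₁] [Algebra R P₂]
    [AddCommGroup X] [Module R X] [Module.Flat P₁ (P₁ ⊗[R] X)] [Module.Flat P₂ (P₂ ⊗[R] X)] :
    Module.Flat (P₁ × P₂) ((P₁ × P₂) ⊗[R] X) := by
  letI a1 : Algebra (P₁ × P₂) P₁ := (RingHom.fst P₁ P₂).toAlgebra
  letI a2 : Algebra (P₁ × P₂) P₂ := (RingHom.snd P₁ P₂).toAlgebra
  haveI : IsScalarTower R (P₁ × P₂) P₁ := IsScalarTower.of_algebraMap_eq fun r => rfl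
  haveI : IsScalarTower R (P₁ × P₂) P₂ := IsScalarTower.of_algebraMap_eq fun r => rfl
  let inl : P₁ →ₗ[P₁ × P₂] P₁ × P₂ :=
    { toFun := fun x => (x, 0), map_add' := fun x y => by simp,
      map_smul' := fun c x => by
        refine Prod.ext ?_ ?_
        · rfl
        · show (0 : P₂) = c.2 * 0
          rw [mul_zero] }
  let inr : P₂ →ₗ[P₁ × P₂] P₁ × P₂ :=
    { toFun := fun x => (0, x), map_add' := fun x y => by simp,
      map_smul' := fun c x => by
        refine Prod.ext ?_ ?_
        · show (0 : P₁) = c.1 * 0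
          rw [mul_zero]
        · rfl }
  let fst : (P₁ × P₂) →ₗ[P₁ × P₂] P₁ := Algebra.linearMap (P₁ × P₂) P₁
  let snd : (P₁ × P₂) →ₗ[P₁ × P₂] P₂ := Algebra.linearMap (P₁ × P₂) P₂
  haveI : Module.Flat (P₁ × P₂) P₁ := Module.Flat.of_retract inl fst (LinearMap.ext fun x => rfl)
  haveI : Module.Flat (P₁ × P₂) P₂ := Module.Flat.of_retract inr snd (LinearMap.ext fun x => rfl)
  haveI : Module.Flat (P₁ × P₂) (P₁ ⊗[R] X) := Module.Flat.trans (P₁ × P₂) P₁ (P₁ ⊗[R] X)
  haveI : Module.Flat (P₁ × P₂) (P₂ ⊗[R] X) := Module.Flat.trans (P₁ × P₂) P₂ (P₂ ⊗[R] X)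
  haveI : Module.Flat (P₁ × P₂) ((P₁ ⊗[R] X) × (P₂ ⊗[R] X)) := flat_prod'
  let e : (P₁ × P₂) ≃ₗ[P₁ × P₂] P₁ × P₂ :=
    { toFun := fun x => x, invFun := fun x => x, map_add' := fun _ _ => rfl,
      map_smul' := fun _ _ => rfl, left_inv := fun _ => rfl, right_inv := fun _ => rfl }
  exact Module.Flat.of_linearEquiv
    ((AlgebraTensorModule.congr e (LinearEquiv.refl R X)).trans
      (TensorProduct.prodLeft R (P₁ × P₂) P₁ P₂ X))

/-- The set of ideals with flat reduction is closed under intersection, for ideals containing a power of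
the maximal ideal. -/
theorem flat_inf {R X : Type u} [CommRing R] [IsLocalRing R] [AddCommGroup X] [Module R X]
    (J J' : Ideal R) (n : ℕ) (hn : maximalIdeal R ^ n ≤ J ⊓ J')
    (h : Module.Flat (R ⧸ J) ((R ⧸ J) ⊗[R] X)) (h' : Module.Flat (R ⧸ J') ((R ⧸ J') ⊗[R] X)) :
    Module.Flat (R ⧸ (J ⊓ J')) ((R ⧸ (J ⊓ J')) ⊗[R] X) := by
  by_cases htop : J ⊓ J' = ⊤
  · haveI : Subsingleton (R ⧸ (J ⊓ J')) := Ideal.Quotient.subsingleton_iff.mpr htop
    haveI : Subsingleton ((R ⧸ (J ⊓ J')) ⊗[R] X) := Module.subsingleton (R ⧸ (J ⊓ J')) _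
    exact Module.Flat.of_free
  let P := R ⧸ (J ⊓ J')
  let f : P →ₐ[R] (R ⧸ J) × (R ⧸ J') :=
    (Ideal.Quotient.factorₐ R inf_le_left).prod (Ideal.Quotient.factorₐ R inf_le_right)
  have hinj : Function.Injective f := by
    rw [injective_iff_map_eq_zero]
    intro x hx
    obtain ⟨x, rfl⟩ := Ideal.Quotient.mk_surjective x
    refine Ideal.Quotient.eq_zero_iff_mem.mpr ⟨?_, ?_⟩
    · exact Ideal.Quotient.eq_zero_iff_mem.mp (congrArg Prod.fst hx)
    · exact Ideal.Quotient.eq_zero_iff_mem.mp (congrArg Prod.snd hx)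
  letI : Algebra P ((R ⧸ J) × (R ⧸ J')) := f.toRingHom.toAlgebra
  haveI : IsScalarTower R P ((R ⧸ J) × (R ⧸ J')) :=
    IsScalarTower.of_algebraMap_eq fun r => (f.commutes r).symm
  haveI := flat_prod (R := R) (P₁ := R ⧸ J) (P₂ := R ⧸ J') (X := X)
  haveI : Module.Flat ((R ⧸ J) × (R ⧸ J')) (((R ⧸ J) × (R ⧸ J')) ⊗[P] (P ⊗[R] X)) :=
    Module.Flat.of_linearEquiv (AlgebraTensorModule.cancelBaseChange R P _ _ X)
  have hKm : J ⊓ J' ≤ maximalIdeal R := le_maximalIdeal htop
  haveI : ((maximalIdeal R).map (Ideal.Quotient.mk (J ⊓ J'))).IsMaximal := by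
    refine (Ideal.map_eq_top_or_isMaximal_of_surjective _ Ideal.Quotient.mk_surjective
      (IsLocalRing.maximalIdeal.isMaximal R)).resolve_left fun h => ?_
    have := congrArg (Ideal.comap (Ideal.Quotient.mk (J ⊓ J'))) h
    rw [Ideal.comap_map_of_surjective _ Ideal.Quotient.mk_surjective, ← RingHom.ker_eq_comap_bot,
      Ideal.mk_ker, sup_eq_left.mpr hKm, Ideal.comap_top] at this
    exact (IsLocalRing.maximalIdeal.isMaximal R).ne_top this
  have hnil : IsNilpotent ((maximalIdeal R).map (Ideal.Quotient.mk (J ⊓ J'))) := by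
    refine ⟨n, ?_⟩
    rwa [← Ideal.map_pow, Ideal.zero_eq_bot, Ideal.map_eq_bot_iff_le_ker, Ideal.mk_ker]
  haveI := FlatDescInjLib.free_of_flat_baseChange (R := P) (R' := (R ⧸ J) × (R ⧸ J'))
    (M := P ⊗[R] X) hinj ((maximalIdeal R).map (Ideal.Quotient.mk (J ⊓ J'))) hnil
  exact Module.Flat.of_free

/-- Flatness over `R ⧸ I` from flatness over all `R ⧸ (I ⊔ m ^ n)`. -/
theorem flat_quotient {R T X : Type u} [CommRing R] [IsLocalRing R] [IsNoetherianRing R] [CommRing T]
    [IsLocalRing T] [IsNoetherianRing T] [Algebra R T] [AddCommGroup X] [Module R X] [Module T X]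
    [IsScalarTower R T X] [Module.Finite T X]
    (hloc : (maximalIdeal R).map (algebraMap R T) ≤ maximalIdeal T) (I : Ideal R)
    (h : ∀ n : ℕ, Module.Flat (R ⧸ (I ⊔ maximalIdeal R ^ n)) ((R ⧸ (I ⊔ maximalIdeal R ^ n)) ⊗[R] X)) :
    Module.Flat (R ⧸ I) ((R ⧸ I) ⊗[R] X) := by
  let I' := I.map (algebraMap R T)
  let Y := X ⧸ (I' • ⊤ : Submodule T X)
  let T' := T ⧸ I'
  letI : Module (R ⧸ I) Y := Module.compHom Y (algebraMap (R ⧸ I) T')
  haveI : IsScalarTower (R ⧸ I) T' Y := IsScalarTower.of_algebraMap_smul fun a y => rfl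
  haveI : IsScalarTower R (R ⧸ I) Y := by
    refine IsScalarTower.of_algebraMap_smul fun r y => ?_
    obtain ⟨y, rfl⟩ := Submodule.Quotient.mk_surjective _ y
    show Submodule.Quotient.mk (algebraMap R T r • y) = Submodule.Quotient.mk (r • y)
    rw [algebraMap_smul]
  haveI : IsScalarTower T T' Y := IsScalarTower.of_algebraMap_smul fun t y => by
    obtain ⟨y, rfl⟩ := Submodule.Quotient.mk_surjective _ y
    rfl
  haveI : Module.Finite T' Y := Module.Finite.of_restrictScalars_finite T T' Y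
  have e0 : (R ⧸ I) ⊗[R] X ≃ₗ[R] Y :=
    (TensorProduct.quotTensorEquivQuotSMul X I).trans
      ((Submodule.quotEquivOfEq _ ((I' • ⊤ : Submodule T X).restrictScalars R) (by
        ext x
        rw [Submodule.restrictScalars_mem]
        exact LocFlat.mem_smul_top_iff I x)).trans
        (Submodule.Quotient.restrictScalarsEquiv R (I' • ⊤ : Submodule T X)))
  let e : (R ⧸ I) ⊗[R] X ≃ₗ[R ⧸ I] Y := e0.extendScalarsOfSurjective Ideal.Quotient.mk_surjective
  haveI hY : Module.Flat (R ⧸ I) Y := by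
    refine flat_of_adic_module (S := T') ((maximalIdeal R).map (Ideal.Quotient.mk I)) ?_ fun n => ?_
    · rw [Ideal.map_map, show (algebraMap (R ⧸ I) T').comp (Ideal.Quotient.mk I) =
        (Ideal.Quotient.mk I').comp (algebraMap R T) from rfl, ← Ideal.map_map]
      refine (Ideal.map_mono hloc).trans (le_sInf fun M hM => ?_)
      rw [Ideal.map_le_iff_le_comap]
      haveI := hM.2
      exact (IsLocalRing.eq_maximalIdeal
        (Ideal.comap_isMaximal_of_surjective (Ideal.Quotient.mk I') Ideal.Quotient.mk_surjective)).ge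
    · let Q := (R ⧸ I) ⧸ ((maximalIdeal R).map (Ideal.Quotient.mk I)) ^ n
      let f : (R ⧸ (I ⊔ maximalIdeal R ^ n)) →ₐ[R] Q :=
        Ideal.Quotient.liftₐ _ (Algebra.ofId R Q) (by
          intro x hx
          show Ideal.Quotient.mk _ (Ideal.Quotient.mk I x) = 0
          rw [Ideal.Quotient.eq_zero_iff_mem, ← Ideal.map_pow]
          obtain ⟨a, ha, b, hb, rfl⟩ := Submodule.mem_sup.mp hx
          rw [map_add, Ideal.Quotient.eq_zero_iff_mem.mpr ha, zero_add]
          exact Ideal.mem_map_of_mem _ hb)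
      haveI := h n
      haveI : Module.Flat Q (Q ⊗[R] X) := flat_map f
      exact Module.Flat.of_linearEquiv
        (((AlgebraTensorModule.congr (LinearEquiv.refl Q Q) e.symm)).trans
          (AlgebraTensorModule.cancelBaseChange R (R ⧸ I) Q Q X))
  exact Module.Flat.of_linearEquiv e

end Groth.Agent.FlattenIdealLib
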